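import Groth.Agent.Lib.Sect6.RegularQuot

/-! # Hartshorne's connectedness in codimension from depth two -/

set_option autoImplicit false
universe u

open RingTheory.Sequence IsLocalRing Pointwise

namespace Groth.Agent.HartConn6

/-- Two ideals with zero product whose sum is `m`-primary: one of them is zero, in depth two. -/
theorem eq_bot_or_eq_bot {L : Type u} [CommRing L] [IsLocalRing L] [IsNoetherianRing L]
    (hd : (2 : ℕ∞) ≤ LocCoh.depth L L) (a b : Ideal L) (hab : a * b = ⊥)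
    (hm : maximalIdeal L ≤ (a ⊔ b).radical) : a = ⊥ ∨ b = ⊥ := by
  have htop : maximalIdeal L • (⊤ : Submodule L L) ≠ ⊤ := by
    rw [smul_eq_mul, Ideal.mul_top]; exact (maximalIdeal.isMaximal L).ne_top
  obtain ⟨rs, hrs, hmem, hlen⟩ := DepthLib.exists_isWeaklyRegular_of_le_idealDepth htop (n := 2)
    (by exact_mod_cast hd)
  obtain ⟨x, y, rfl⟩ := List.length_eq_two.1 hlen
  rw [isWeaklyRegular_cons_iff, isWeaklyRegular_singleton_iff] at hrs
  have hx0 : ∀ c, x * c = 0 → c = 0 := fun c hc => hrs.1 (by simpa using hc)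
  have hy0 : ∀ c d, y * c = x * d → ∃ e, c = x * e := fun c d hcd => by
    have h3 : Submodule.Quotient.mk (p := x • (⊤ : Submodule L L)) c = 0 := by
      refine hrs.2 ?_
      show y • _ = y • (0 : QuotSMulTop x L)
      rw [smul_zero, ← Submodule.Quotient.mk_smul, Submodule.Quotient.mk_eq_zero, smul_eq_mul, hcd]
      exact Submodule.smul_mem_pointwise_smul d x ⊤ trivial
    rw [Submodule.Quotient.mk_eq_zero] at h3
    obtain ⟨e, -, he⟩ := h3
    exact ⟨e, he.symm⟩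
  obtain ⟨n, hn⟩ := hm (hmem x (by simp))
  obtain ⟨m, hm'⟩ := hm (hmem y (by simp))
  have hX0 : ∀ c, x ^ n * c = 0 → c = 0 := by
    clear hn
    induction n with
    | zero => simp
    | succ k ih => exact fun c hc => hx0 c (ih _ (by rw [← hc]; ring))
  have hY0 := fun c d => Sect6.dvd_pow_of_pow_mul hx0 hy0 n m c d
  obtain ⟨a0, ha0, b0, hb0, h0⟩ := Submodule.mem_sup.1 hn
  obtain ⟨a1, ha1, b1, hb1, h1⟩ := Submodule.mem_sup.1 hm'
  have hz : ∀ s ∈ a, ∀ t ∈ b, s * t = 0 := fun s hs t ht => by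
    rw [← Ideal.mem_bot, ← hab]; exact Ideal.mul_mem_mul hs ht
  have hint : ∀ z ∈ a, z ∈ b → z = 0 := fun z hza hzb => hX0 z (by
    rw [← h0]
    linear_combination hz a0 ha0 z hzb + hz z hza b0 hb0)
  obtain ⟨c, hc⟩ := hY0 a0 a1 (by
    rw [← h1, ← h0]
    linear_combination hz a0 ha0 b1 hb1 - hz a1 ha1 b0 hb0)
  have h2 : (1 - c) * a0 = 0 := hint _ (Ideal.mul_mem_left _ _ ha0) (by
    have : (1 - c) * a0 = c * b0 := by rw [← h0] at hc; linear_combination hc
    rw [this]; exact Ideal.mul_mem_left _ _ hb0)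
  rcases IsLocalRing.isUnit_or_isUnit_one_sub_self c with hu | hu
  · right
    have hb00 : b0 = 0 := (IsUnit.mul_right_eq_zero hu).1 (by
      rw [← h0] at hc; linear_combination -hc + h2)
    refine (Submodule.eq_bot_iff _).2 fun z hzb => hX0 z ?_
    rw [← h0, hb00, add_zero]
    exact hz a0 ha0 z hzb
  · left
    have ha00 : a0 = 0 := (IsUnit.mul_right_eq_zero hu).1 h2
    refine (Submodule.eq_bot_iff _).2 fun z hza => hX0 z ?_
    rw [← h0, ha00, zero_add, mul_comm]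
    exact hz z hza b0 hb0

theorem exists_chain {α : Type*} {P : α → Prop} {r : α → α → Prop} (hr : ∀ x y, r x y → P y) {a b : α}
    (h : Relation.ReflTransGen r a b) (ha : P a) :
    ∃ (n : ℕ) (c : Fin (n + 1) → α), c 0 = a ∧ c (Fin.last n) = b ∧ (∀ i, P (c i)) ∧
      ∀ i : Fin n, r (c i.castSucc) (c i.succ) := by
  induction h with
  | refl => exact ⟨0, fun _ => a, rfl, rfl, fun _ => ha, fun i => i.elim0⟩
  | @tail x y _ hxy ih =>
    obtain ⟨n, c, h0, hl, hP, hs⟩ := ih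
    refine ⟨n + 1, Fin.snoc c y, ?_, Fin.snoc_last .., fun i => ?_, fun i => ?_⟩
    · rw [← Fin.castSucc_zero, Fin.snoc_castSucc, h0]
    · induction i using Fin.lastCases with
      | last => rw [Fin.snoc_last]; exact hr _ _ hxy
      | cast i => rw [Fin.snoc_castSucc]; exact hP i
    · induction i using Fin.lastCases with
      | last => rw [Fin.snoc_castSucc, Fin.succ_last, Fin.snoc_last, hl]; exact hxy
      | cast i => rw [Fin.succ_castSucc, Fin.snoc_castSucc, Fin.snoc_castSucc]; exact hs i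

theorem exists_step {A : Type u} [CommRing A] [IsNoetherianRing A] [ConnectedSpace (PrimeSpectrum A)] (d : ℕ)
    (h : ∀ (p : Ideal A) [p.IsPrime], (d : ℕ∞) ≤ p.height →
      (2 : ℕ∞) ≤ LocCoh.depth (Localization.AtPrime p) (Localization.AtPrime p))
    (C D : Finset (Ideal A)) (hCD : ∀ p ∈ minimalPrimes A, p ∈ C ∨ p ∈ D)
    (hC : ∀ p ∈ C, p ∈ minimalPrimes A) (hD : ∀ p ∈ D, p ∈ minimalPrimes A)
    (hdisj : Disjoint C D) (hCne : C.Nonempty) (hDne : D.Nonempty) :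
    ∃ p ∈ C, ∃ p' ∈ D, ∃ (q : Ideal A) (_ : q.IsPrime), p ≤ q ∧ p' ≤ q ∧ q.height + 1 ≤ (d : ℕ∞) := by
  classical
  by_contra hno
  push Not at hno
  let I₁ : Ideal A := C.inf id
  let I₂ : Ideal A := D.inf id
  have hI₁ : ∀ q : Ideal A, q.IsPrime → I₁ ≤ q → ∃ p ∈ C, p ≤ q := fun q hq hle =>
    (Ideal.IsPrime.inf_le' hq).1 hle
  have hI₂ : ∀ q : Ideal A, q.IsPrime → I₂ ≤ q → ∃ p ∈ D, p ≤ q := fun q hq hle =>
    (Ideal.IsPrime.inf_le' hq).1 hle
  have hnil : I₁ * I₂ ≤ nilradical A := by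
    rw [nilradical_eq_sInf]
    refine le_sInf fun q hq => ?_
    haveI : Ideal.IsPrime q := hq
    obtain ⟨p, hp, hpq⟩ := Ideal.exists_minimalPrimes_le (bot_le : (⊥ : Ideal A) ≤ q)
    rcases hCD p hp with h' | h'
    · exact Ideal.mul_le_left.trans ((Finset.inf_le h').trans hpq)
    · exact Ideal.mul_le_right.trans ((Finset.inf_le h').trans hpq)
  have hmeet : ∃ q : Ideal A, q.IsPrime ∧ I₁ ⊔ I₂ ≤ q := by
    by_contra hne
    push Not at hne
    let Z₁ := PrimeSpectrum.zeroLocus (I₁ : Set A)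
    let Z₂ := PrimeSpectrum.zeroLocus (I₂ : Set A)
    have hcompl : Z₁ = Z₂ᶜ := by
      ext z
      refine ⟨fun h1 h2 => hne z.asIdeal z.isPrime (sup_le h1 h2), fun h2 => ?_⟩
      obtain ⟨p, hp, hpz⟩ := Ideal.exists_minimalPrimes_le (bot_le : (⊥ : Ideal A) ≤ z.asIdeal)
      rcases hCD p hp with h' | h'
      · exact (Finset.inf_le h' : I₁ ≤ p).trans hpz
      · exact absurd ((Finset.inf_le h' : I₂ ≤ p).trans hpz) h2
    have hclopen : IsClopen Z₁ := ⟨PrimeSpectrum.isClosed_zeroLocus _,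
      hcompl ▸ (PrimeSpectrum.isClosed_zeroLocus _).isOpen_compl⟩
    obtain ⟨p, hp⟩ := hCne
    obtain ⟨p', hp'⟩ := hDne
    rcases isClopen_iff.1 hclopen with he | he
    · have : (⟨p, (hC p hp).1.1⟩ : PrimeSpectrum A) ∈ Z₁ := show I₁ ≤ p from Finset.inf_le (f := id) hp
      rw [he] at this
      exact this
    · have hm2 : (⟨p', (hD p' hp').1.1⟩ : PrimeSpectrum A) ∈ Z₂ := show I₂ ≤ p' from Finset.inf_le (f := id) hp'
      have hm1 : (⟨p', (hD p' hp').1.1⟩ : PrimeSpectrum A) ∈ Z₁ := he ▸ Set.mem_univ _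
      rw [hcompl] at hm1
      exact hm1 hm2
  obtain ⟨q₀, hq₀, hle₀⟩ := hmeet
  obtain ⟨q, hq, -⟩ := Ideal.exists_minimalPrimes_le hle₀
  haveI := hq.1.1
  have hle : I₁ ≤ q ∧ I₂ ≤ q := sup_le_iff.1 hq.1.2
  obtain ⟨p, hp, hpq⟩ := hI₁ q inferInstance hle.1
  obtain ⟨p', hp', hp'q⟩ := hI₂ q inferInstance hle.2
  have hht : (d : ℕ∞) ≤ q.height := Order.le_of_lt_succ (by
    rw [ENat.succ_def]; exact hno p hp p' hp' q inferInstance hpq hp'q)
  obtain ⟨k, hk⟩ := (Ideal.exists_pow_le_of_le_radical_of_fg (I := I₁ * I₂) (J := ⊥)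
    (by exact hnil) (IsNoetherian.noetherian _))
  let L := Localization.AtPrime q
  have hab : (I₁ ^ k).map (algebraMap A L) * (I₂ ^ k).map (algebraMap A L) = ⊥ := by
    rw [← Ideal.map_mul, ← mul_pow, le_bot_iff.1 hk, Ideal.map_bot]
  have hm : maximalIdeal L ≤ ((I₁ ^ k).map (algebraMap A L) ⊔ (I₂ ^ k).map (algebraMap A L)).radical := by
    rw [Ideal.radical_eq_sInf]
    refine le_sInf fun P hP => ?_
    obtain ⟨hPle, hPp⟩ := hP
    haveI : Ideal.IsPrime P := hPp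
    let q' := P.under A
    have h1 : I₁ ≤ q' := by
      refine fun z hz => (inferInstance : q'.IsPrime).mem_of_pow_mem k ?_
      exact Ideal.map_le_iff_le_comap.1 (le_sup_left.trans hPle) (Ideal.pow_mem_pow hz k)
    have h2 : I₂ ≤ q' := by
      refine fun z hz => (inferInstance : q'.IsPrime).mem_of_pow_mem k ?_
      exact Ideal.map_le_iff_le_comap.1 (le_sup_right.trans hPle) (Ideal.pow_mem_pow hz k)
    have hq'q : q' ≤ q := by
      intro z hz
      by_contra hzq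
      exact hPp.ne_top (Ideal.eq_top_of_isUnit_mem _ hz (IsLocalization.map_units L (⟨z, hzq⟩ : q.primeCompl)))
    rw [← Localization.AtPrime.map_eq_maximalIdeal]
    exact Ideal.map_le_iff_le_comap.2 (hq.2 ⟨inferInstance, sup_le h1 h2⟩ hq'q)
  have hkill : ∀ (E : Finset (Ideal A)) (p₀ : Ideal A), p₀.IsPrime → p₀ ≤ q →
      ((E.inf id : Ideal A) ^ k).map (algebraMap A L) = ⊥ → ∃ p ∈ E, p ≤ p₀ := by
    intro E p₀ hp₀ hp₀q h0
    refine (Ideal.IsPrime.inf_le' hp₀).1 fun z hz => hp₀.mem_of_pow_mem k ?_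
    have h3 : algebraMap A L (z ^ k) = 0 := by
      rw [← Ideal.mem_bot, ← h0]; exact Ideal.mem_map_of_mem _ (Ideal.pow_mem_pow hz k)
    obtain ⟨t, ht⟩ := (IsLocalization.map_eq_zero_iff q.primeCompl L _).1 h3
    exact (hp₀.mem_or_mem (ht ▸ p₀.zero_mem : (t : A) * z ^ k ∈ p₀)).resolve_left fun h => t.2 (hp₀q h)
  rcases eq_bot_or_eq_bot (h q hht) _ _ hab hm with h0 | h0
  · obtain ⟨p₁, hp₁, hle1⟩ := hkill C p' (hD p' hp').1.1 hp'q h0
    have := le_antisymm hle1 ((hD p' hp').2 (hC p₁ hp₁).1 hle1)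
    exact Finset.disjoint_left.1 hdisj (this ▸ hp₁) hp'
  · obtain ⟨p₁, hp₁, hle1⟩ := hkill D p (hC p hp).1.1 hpq h0
    have := le_antisymm hle1 ((hC p hp).2 (hD p₁ hp₁).1 hle1)
    exact Finset.disjoint_left.1 hdisj hp (this ▸ hp₁)

theorem exists_minimalPrimes_chain {A : Type u} [CommRing A] [IsNoetherianRing A]
    [ConnectedSpace (PrimeSpectrum A)] (d : ℕ)
    (h : ∀ (p : Ideal A) [p.IsPrime], (d : ℕ∞) ≤ p.height →
      (2 : ℕ∞) ≤ LocCoh.depth (Localization.AtPrime p) (Localization.AtPrime p))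
    (p' p'' : Ideal A) (hp' : p' ∈ minimalPrimes A) (hp'' : p'' ∈ minimalPrimes A) :
    ∃ (n : ℕ) (c : Fin (n + 1) → Ideal A), c 0 = p' ∧ c (Fin.last n) = p'' ∧ (∀ i, c i ∈ minimalPrimes A) ∧
      ∀ i : Fin n, ∃ (q : Ideal A) (_ : q.IsPrime),
        c i.castSucc ≤ q ∧ c i.succ ≤ q ∧ q.height + 1 ≤ (d : ℕ∞) := by
  classical
  let r : Ideal A → Ideal A → Prop := fun x y => y ∈ minimalPrimes A ∧
    ∃ (q : Ideal A) (_ : q.IsPrime), x ≤ q ∧ y ≤ q ∧ q.height + 1 ≤ (d : ℕ∞)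
  have hreach : Relation.ReflTransGen r p' p'' := by
    by_contra hne
    let M := (minimalPrimes.finite_of_isNoetherianRing A).toFinset
    let C := M.filter fun p => Relation.ReflTransGen r p' p
    let D := M.filter fun p => ¬ Relation.ReflTransGen r p' p
    obtain ⟨x, hx, y, hy, q, hq, hxq, hyq, hqd⟩ := exists_step d h C D
      (fun p hp => (em (Relation.ReflTransGen r p' p)).imp
        (fun h' => Finset.mem_filter.2 ⟨(Set.Finite.mem_toFinset _).2 hp, h'⟩)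
        (fun h' => Finset.mem_filter.2 ⟨(Set.Finite.mem_toFinset _).2 hp, h'⟩))
      (fun p hp => (Set.Finite.mem_toFinset _).1 (Finset.mem_filter.1 hp).1)
      (fun p hp => (Set.Finite.mem_toFinset _).1 (Finset.mem_filter.1 hp).1)
      (Finset.disjoint_filter_filter_not _ _ _)
      ⟨p', Finset.mem_filter.2 ⟨(Set.Finite.mem_toFinset _).2 hp', .refl⟩⟩
      ⟨p'', Finset.mem_filter.2 ⟨(Set.Finite.mem_toFinset _).2 hp'', hne⟩⟩
    obtain ⟨hxM, hxr⟩ := Finset.mem_filter.1 hx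
    obtain ⟨hyM, hyr⟩ := Finset.mem_filter.1 hy
    exact hyr (hxr.tail ⟨(Set.Finite.mem_toFinset _).1 hyM, q, hq, hxq, hyq, hqd⟩)
  obtain ⟨n, c, h0, hl, hP, hs⟩ := exists_chain (P := fun p => p ∈ minimalPrimes A) (r := r)
    (fun _ _ h => h.1) hreach hp'
  exact ⟨n, c, h0, hl, hP, fun i => (hs i).2⟩

end Groth.Agent.HartConn6
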