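import Groth.Agent.Lib.FlatDepth.SkLocal
import Groth.Agent.Lib.FlatDepth.QuotLoc
import Groth.Agent.Lib.ClosedAlong.Criteria
import Groth.Agent.Lib.LocCoh.CMOff27
import Mathlib

/-! # `(S_k)` and embedded primes of quotients by regular sequences -/

set_option autoImplicit false
universe u

open IsLocalRing RingTheory.Sequence TensorProduct
open scoped Pointwise

namespace Groth.Agent.HartConn6

variable {A : Type u} [CommRing A] [IsNoetherianRing A] {N : Type u} [AddCommGroup N] [Module A N]
  [Module.Finite A N]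

/-- Localising the quotient by a sequence. -/
noncomputable def locQuotEquiv (rs : List A) (q : Ideal A) [q.IsPrime] :
    LocalizedModule q.primeCompl (N ⧸ (Ideal.ofList rs • ⊤ : Submodule A N)) ≃ₗ[Localization.AtPrime q]
      LocalizedModule q.primeCompl N ⧸ (Ideal.ofList (rs.map (algebraMap A (Localization.AtPrime q))) • ⊤ :
        Submodule (Localization.AtPrime q) (LocalizedModule q.primeCompl N)) :=
  (FlatDepth.localizeQuotModEquiv N (Ideal.ofList rs) q.primeCompl).trans
    (Submodule.quotEquivOfEq _ _ (by rw [Ideal.map_ofList]))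

theorem noEmbedded_of_hasSk (k : ℕ) (h : LocCoh.HasSk k A N) (rs : List A) (hlen : rs.length < k)
    (hreg : IsWeaklyRegular N rs) (p : Ideal A) (hp : p ∈ associatedPrimes A (N ⧸ (Ideal.ofList rs • ⊤ : Submodule A N)))
    (q : Ideal A) (hq : q ∈ associatedPrimes A (N ⧸ (Ideal.ofList rs • ⊤ : Submodule A N))) (hpq : p ≤ q) :
    p = q := by
  by_contra hne
  haveI := IsAssociatedPrime.isPrime hp
  haveI := IsAssociatedPrime.isPrime hq
  let L := Localization.AtPrime q
  let M := LocalizedModule q.primeCompl N
  let rs' := rs.map (algebraMap A L)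
  let e := locQuotEquiv (N := N) rs q
  have hann : ∀ r ∈ rs, r ∈ q := fun r hr => by
    obtain ⟨-, m, hm⟩ := isAssociatedPrime_iff.1 hq
    rw [hm, Submodule.mem_colon_singleton, Submodule.mem_bot]
    obtain ⟨m, rfl⟩ := Submodule.Quotient.mk_surjective _ m
    rw [← Submodule.Quotient.mk_smul, Submodule.Quotient.mk_eq_zero]
    exact Submodule.smul_mem_smul (Ideal.subset_span hr) trivial
  have hmem : ∀ r ∈ rs', r ∈ maximalIdeal L := fun r hr => by
    obtain ⟨r, hr', rfl⟩ := List.mem_map.1 hr
    exact (IsLocalization.AtPrime.to_map_mem_maximal_iff L q _).2 (hann r hr')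
  have hreg' : IsWeaklyRegular M rs' :=
    hreg.of_isLocalizedModule L q.primeCompl (LocalizedModule.mkLinearMap q.primeCompl N)
  have h0 : LocCoh.depth L (LocalizedModule q.primeCompl (N ⧸ (Ideal.ofList rs • ⊤ : Submodule A N))) = 0 := by
    by_contra h0
    exact ClosedAlong.notMem_associatedPrimes_of_one_le_depth q
      (Order.one_le_iff_pos.2 (pos_iff_ne_zero.2 h0)) hq
  haveI hnt : Nontrivial (LocalizedModule q.primeCompl (N ⧸ (Ideal.ofList rs • ⊤ : Submodule A N))) :=
    DepthLib.mem_support_of_mem_associatedPrimes hq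
  haveI : Nontrivial (M ⧸ (Ideal.ofList rs' • ⊤ : Submodule L M)) := e.symm.toEquiv.nontrivial
  haveI : Nontrivial M := (Submodule.mkQ_surjective (Ideal.ofList rs' • ⊤ : Submodule L M)).nontrivial
  have hdep : LocCoh.depth L M = (rs.length : ℕ∞) := by
    have h1 := DepthLib.idealDepth_quot_add_length (I := maximalIdeal L) hreg' hmem
    rw [← DepthLib.idealDepth_congr e, ← LocCoh.depth, h0, zero_add, List.length_map] at h1
    exact h1.symm
  have hdim : Module.supportDim L M ≤ (rs.length : WithBot ℕ∞) := by
    have h1 := h q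
    rw [hdep] at h1
    rcases le_total (k : WithBot ℕ∞) (Module.supportDim L M) with h2 | h2
    · rw [min_eq_left h2] at h1
      exact absurd h1 (not_le.2 (by exact_mod_cast hlen))
    · rw [min_eq_right h2] at h1
      exact_mod_cast h1
  have hreg'' : IsRegular M rs' :=
    (IsLocalRing.isRegular_iff_isWeaklyRegular_of_subset_maximalIdeal hmem).2 hreg'
  have hadd := Module.supportDim_add_length_eq_supportDim_of_isRegular (R := L) rs' hreg''
  have hP := LocCohLib.map_mem_associatedPrimes_atPrime (p₀ := ⟨p, inferInstance⟩) (p := ⟨q, inferInstance⟩) hpq hp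
  haveI hPp : (p.map (algebraMap A L)).IsPrime := IsAssociatedPrime.isPrime hP
  have hsupp := DepthLib.mem_support_of_mem_associatedPrimes hP
  have h1 := (DepthLib.ringKrullDim_quotient_le_supportDim hsupp).trans_eq (Module.supportDim_eq_of_equiv e)
  have hne' : p.map (algebraMap A L) ≠ maximalIdeal L := fun he => hne (by
    have h2 := congrArg (Ideal.comap (algebraMap A L)) he
    exact (IsLocalization.comap_map_of_isPrime_disjoint q.primeCompl L ‹p.IsPrime›
      (Set.disjoint_left.2 fun a ha ha' => ha (hpq ha'))).symm.trans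
        (h2.trans (IsLocalization.AtPrime.comap_maximalIdeal L q)))
  have hge : (1 : WithBot ℕ∞) ≤ ringKrullDim (L ⧸ p.map (algebraMap A L)) := by
    rw [ringKrullDim_quotient]
    refine Order.one_le_krullDim_iff.2 ⟨⟨⟨_, hPp⟩, fun _ h => h⟩, ⟨closedPoint L, ?_⟩, ?_⟩
    · exact le_maximalIdeal hPp.ne_top
    · refine lt_of_le_of_ne (le_maximalIdeal hPp.ne_top) ?_
      exact fun he => hne' (congrArg (fun z => (Subtype.val z).asIdeal) he)
  have h2 := hadd.trans_le hdim
  rw [List.length_map] at h2
  obtain ⟨d, hd⟩ := DepthLib.exists_supportDim_eq_natCast (R := L)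
    (M := M ⧸ (Ideal.ofList rs' • ⊤ : Submodule L M))
  rw [hd] at h2 h1
  have h3 := hge.trans h1
  norm_cast at h2 h3
  omega

theorem isSMulRegular_tensor_of_kills (a g : A) (hg : ∀ n : N, a • n = 0 → g • n = 0) (L : Type u) [CommRing L]
    [Algebra A L] [Module.Flat A L] (hu : IsUnit (algebraMap A L g)) : IsSMulRegular (L ⊗[A] N) a := by
  refine fun z₁ z₂ h12 => sub_eq_zero.1 ?_
  have hz : a • (z₁ - z₂) = 0 := by rw [smul_sub, sub_eq_zero]; exact h12
  generalize z₁ - z₂ = z at hz ⊢
  clear h12
  let f : N →ₗ[A] N := a • LinearMap.id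
  let K := LinearMap.ker f
  have hex : Function.Exact (K.subtype.lTensor L) (f.lTensor L) :=
    Module.Flat.lTensor_exact L (LinearMap.exact_subtype_ker_map f)
  have hz' : (f.lTensor L) z = 0 := by
    rw [show f.lTensor L = a • LinearMap.id from by rw [LinearMap.lTensor_smul, LinearMap.lTensor_id]]
    exact hz
  obtain ⟨w, rfl⟩ := (hex z).1 hz'
  have hw : g • w = 0 := by
    clear hz hz'
    induction w with
    | zero => simp
    | add x y hx hy => rw [smul_add, hx, hy, add_zero]
    | tmul l x =>
      rw [← TensorProduct.tmul_smul]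
      have : g • x = 0 := Subtype.ext (by
        have hx : a • (x : N) = 0 := x.2
        exact hg _ hx)
      rw [this, TensorProduct.tmul_zero]
  have h1 : algebraMap A L g • K.subtype.lTensor L w = 0 := by
    rw [algebraMap_smul, ← map_smul, hw, map_zero]
  exact (IsUnit.smul_eq_zero hu).1 h1

theorem exists_spread (p : Ideal A) [p.IsPrime] : ∀ (d : ℕ) (N : Type u) [AddCommGroup N] [Module A N]
    [Module.Finite A N], (d : ℕ∞) ≤ LocCoh.depth (Localization.AtPrime p) (LocalizedModule p.primeCompl N) →
      Nontrivial (LocalizedModule p.primeCompl N) →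
      ∃ g ∉ p, ∃ rs : List A, rs.length = d ∧ (∀ r ∈ rs, r ∈ p) ∧
        ∀ (L : Type u) [CommRing L] [Algebra A L] [Module.Flat A L], IsUnit (algebraMap A L g) →
          IsWeaklyRegular (L ⊗[A] N) (rs.map (algebraMap A L)) := by
  intro d
  induction d with
  | zero =>
    intro N _ _ _ _ _
    exact ⟨1, fun h => Ideal.IsPrime.ne_top' ((Ideal.eq_top_iff_one p).2 h), [], rfl, by simp,
      fun L _ _ _ _ => by simp⟩
  | succ d ih =>
    intro N _ _ _ hd hnt
    let Lp := Localization.AtPrime p
    let M := LocalizedModule p.primeCompl N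
    haveI := hnt
    have htop : maximalIdeal Lp • (⊤ : Submodule Lp M) ≠ ⊤ :=
      DepthLib.smul_top_ne_top (maximalIdeal.isMaximal Lp).ne_top
    obtain ⟨x, hx, hxr⟩ := DepthLib.exists_isSMulRegular_of_one_le_idealDepth htop
      (le_trans (by exact_mod_cast (Nat.succ_le_succ (Nat.zero_le d))) hd)
    obtain ⟨⟨a, s⟩, rfl⟩ := IsLocalization.mk'_surjective p.primeCompl x
    have hap : a ∈ p := (IsLocalization.AtPrime.mk'_mem_maximal_iff Lp p a s).1 hx
    have har : IsSMulRegular M (algebraMap A Lp a) := by
      rw [← IsLocalization.mk'_spec Lp a s]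
      exact hxr.mul (IsSMulRegular.of_mul (a := (↑(IsLocalization.map_units Lp s).unit⁻¹ : Lp)) (by
        rw [IsUnit.val_inv_mul]; exact IsSMulRegular.one M))
    obtain ⟨G, hG⟩ := (IsNoetherian.noetherian (LinearMap.ker (a • LinearMap.id : N →ₗ[A] N)))
    have hkill : ∀ n ∈ G, ∃ t : p.primeCompl, t • n = (0 : N) := fun n hn => by
      have hn' : a • n = 0 := (hG ▸ Submodule.subset_span hn : n ∈ LinearMap.ker (a • LinearMap.id : N →ₗ[A] N))
      have h1 : LocalizedModule.mkLinearMap p.primeCompl N n = 0 := har (by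
        show algebraMap A Lp a • LocalizedModule.mkLinearMap p.primeCompl N n =
          algebraMap A Lp a • (0 : M)
        rw [smul_zero, algebraMap_smul, ← map_smul, hn', map_zero])
      exact (IsLocalizedModule.eq_zero_iff p.primeCompl _).1 h1
    choose! t ht using hkill
    classical
    let g₀ : A := ∏ n ∈ G, (t n : A)
    have hg₀ : g₀ ∉ p := fun h => by
      obtain ⟨n, hn, hn'⟩ := (Ideal.IsPrime.prod_mem_iff (p := p)).1 h
      exact (t n).2 hn'
    have hker : ∀ n : N, a • n = 0 → g₀ • n = 0 := fun n hn => by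
      have hn' : n ∈ Submodule.span A (G : Set N) := hG.symm ▸ hn
      induction hn' using Submodule.span_induction with
      | mem z hz =>
        obtain ⟨c, hc⟩ : (t z : A) ∣ g₀ := Finset.dvd_prod_of_mem _ hz
        rw [hc, mul_comm, mul_smul, show (t z : A) • z = 0 from ht z hz, smul_zero]
      | zero => simp
      | add u v hu hv hu' hv' =>
        rw [smul_add, hu' ((hG ▸ hu : u ∈ LinearMap.ker (a • LinearMap.id : N →ₗ[A] N))),
          hv' ((hG ▸ hv : v ∈ LinearMap.ker (a • LinearMap.id : N →ₗ[A] N))), add_zero]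
      | smul c u hu hu' =>
        rw [smul_comm, hu' ((hG ▸ hu : u ∈ LinearMap.ker (a • LinearMap.id : N →ₗ[A] N))), smul_zero]
    let N' := QuotSMulTop a N
    let e : QuotSMulTop (algebraMap A Lp a) M ≃ₗ[Lp] LocalizedModule p.primeCompl N' :=
      ((QuotSMulTop.congr (algebraMap A Lp a)
          (IsLocalizedModule.isBaseChange p.primeCompl Lp (LocalizedModule.mkLinearMap p.primeCompl N)).equiv).symm).trans
        ((QuotSMulTop.algebraMapTensorEquivTensorQuotSMulTop a N Lp).trans
          (IsLocalizedModule.isBaseChange p.primeCompl Lp (LocalizedModule.mkLinearMap p.primeCompl N')).equiv)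
    have ham : algebraMap A Lp a ∈ maximalIdeal Lp := (IsLocalization.AtPrime.to_map_mem_maximal_iff Lp p a).2 hap
    have hd' : (d : ℕ∞) ≤ LocCoh.depth Lp (LocalizedModule p.primeCompl N') := by
      rw [LocCoh.depth, ← DepthLib.idealDepth_congr e]
      exact (DepthLib.natCast_le_idealDepth_quotSMulTop_iff ham har d).2 hd
    haveI : Nontrivial (QuotSMulTop (algebraMap A Lp a) M) := by
      refine Submodule.Quotient.nontrivial_iff.2 fun he => htop (top_le_iff.1 (he.ge.trans ?_))
      rw [← Submodule.ideal_span_singleton_smul]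
      exact Submodule.smul_mono_left ((Ideal.span_singleton_le_iff_mem _).2 ham)
    obtain ⟨g', hg', rs, hlen, hrs, hreg⟩ := ih N' hd' e.symm.toEquiv.nontrivial
    refine ⟨g₀ * g', fun h => (‹p.IsPrime›.mem_or_mem h).elim hg₀ hg', a :: rs, by simp [hlen],
      fun r hr => (List.mem_cons.1 hr).elim (fun h => h ▸ hap) (hrs r), fun L _ _ _ hu => ?_⟩
    rw [map_mul, IsUnit.mul_iff] at hu
    rw [List.map_cons, isWeaklyRegular_cons_iff]
    refine ⟨(isSMulRegular_algebraMap_iff L).2 (isSMulRegular_tensor_of_kills a g₀ hker L hu.1), ?_⟩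
    exact ((QuotSMulTop.algebraMapTensorEquivTensorQuotSMulTop a N L).isWeaklyRegular_congr _).2 (hreg L hu.2)

theorem hasSk_iff_noEmbedded (k : ℕ) (hk : 1 ≤ k) :
    LocCoh.HasSk k A N ↔
      ∀ (g : A) (rs : List (Localization.Away g)), rs.length < k →
        IsWeaklyRegular (LocalizedModule (Submonoid.powers g) N) rs →
        ∀ p ∈ associatedPrimes (Localization.Away g)
            (LocalizedModule (Submonoid.powers g) N ⧸
              (Ideal.ofList rs • (⊤ : Submodule (Localization.Away g) (LocalizedModule (Submonoid.powers g) N)))),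
          ∀ q ∈ associatedPrimes (Localization.Away g)
            (LocalizedModule (Submonoid.powers g) N ⧸
              (Ideal.ofList rs • (⊤ : Submodule (Localization.Away g) (LocalizedModule (Submonoid.powers g) N)))),
            p ≤ q → p = q := by
  refine ⟨fun h g rs hlen hreg p hp q hq hpq => ?_, fun h P _ => ?_⟩
  · haveI : IsNoetherianRing (Localization.Away g) := IsLocalization.isNoetherianRing (Submonoid.powers g) _ inferInstance
    refine noEmbedded_of_hasSk k (fun Q _ => ?_) rs hlen hreg p hp q hq hpq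
    obtain ⟨h1, h2⟩ := FlatDepth.invariants_localization_localization (M := N) (Submonoid.powers g) Q
    rw [h1, h2]
    exact h _
  by_contra hlt
  rw [not_le] at hlt
  let L := Localization.AtPrime P
  let M := LocalizedModule P.primeCompl N
  haveI hnt : Nontrivial M := by
    by_contra hM
    rw [not_nontrivial_iff_subsingleton] at hM
    rw [Module.supportDim_eq_bot_of_subsingleton, min_eq_right bot_le] at hlt
    exact not_lt_bot hlt
  obtain ⟨d, hd⟩ := DepthLib.exists_depth_eq_natCast (R := L) (M := M)
  obtain ⟨m, hm⟩ := DepthLib.exists_supportDim_eq_natCast (R := L) (M := M)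
  rw [hd, hm] at hlt
  have hdk : d < k := by
    have h1 := lt_of_lt_of_le hlt (min_le_left _ _)
    exact_mod_cast h1
  have hdm : d < m := by
    have h1 := lt_of_lt_of_le hlt (min_le_right _ _)
    exact_mod_cast h1
  obtain ⟨g, hg, rs, hlen, hrs, hspread⟩ := exists_spread P d N hd.ge hnt
  let Ag := Localization.Away g
  let Mg := LocalizedModule (Submonoid.powers g) N
  haveI : IsNoetherianRing Ag := IsLocalization.isNoetherianRing (Submonoid.powers g) _ inferInstance
  haveI : Module.Flat A Ag := IsLocalization.flat Ag (Submonoid.powers g)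
  let rg := rs.map (algebraMap A Ag)
  have hreg : IsWeaklyRegular Mg rg :=
    ((IsLocalizedModule.isBaseChange (Submonoid.powers g) Ag
      (LocalizedModule.mkLinearMap (Submonoid.powers g) N)).equiv.isWeaklyRegular_congr _).1
        (hspread Ag (IsLocalization.Away.algebraMap_isUnit g))
  have hd1 : Disjoint (Submonoid.powers g : Set A) (P : Set A) := Set.disjoint_left.2 fun z hz hzP => by
    obtain ⟨i, rfl⟩ := hz
    exact hg (‹P.IsPrime›.mem_of_pow_mem i hzP)
  let Q := P.map (algebraMap A Ag)
  haveI : Q.IsPrime := IsLocalization.isPrime_of_isPrime_disjoint (Submonoid.powers g) Ag P inferInstance hd1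
  have hQc : Q.comap (algebraMap A Ag) = P :=
    IsLocalization.comap_map_of_isPrime_disjoint (Submonoid.powers g) Ag ‹P.IsPrime› hd1
  let LQ := Localization.AtPrime Q
  let MQ := LocalizedModule Q.primeCompl Mg
  obtain ⟨i1, i2⟩ := FlatDepth.invariants_localization_localization (M := N) (Submonoid.powers g) Q
  have key : ∀ (a b : Ideal A) [a.IsPrime] [b.IsPrime], a = b →
      LocCoh.depth (Localization.AtPrime a) (LocalizedModule a.primeCompl N) =
        LocCoh.depth (Localization.AtPrime b) (LocalizedModule b.primeCompl N) ∧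
      Module.supportDim (Localization.AtPrime a) (LocalizedModule a.primeCompl N) =
        Module.supportDim (Localization.AtPrime b) (LocalizedModule b.primeCompl N) := by
    intro a b _ _ e; subst e; exact ⟨rfl, rfl⟩
  obtain ⟨k1, k2⟩ := key _ P hQc
  have hdQ : LocCoh.depth LQ MQ = (d : ℕ∞) := (i1.trans k1).trans hd
  have hmQ : Module.supportDim LQ MQ = (m : WithBot ℕ∞) := (i2.trans k2).trans hm
  haveI : Nontrivial MQ := by
    by_contra hM
    rw [not_nontrivial_iff_subsingleton] at hM
    rw [Module.supportDim_eq_bot_of_subsingleton] at hmQ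
    exact WithBot.bot_ne_natCast m hmQ
  let rQ := rg.map (algebraMap Ag LQ)
  have hmem : ∀ r ∈ rQ, r ∈ maximalIdeal LQ := fun r hr => by
    obtain ⟨r, hr', rfl⟩ := List.mem_map.1 hr
    obtain ⟨r, hr'', rfl⟩ := List.mem_map.1 hr'
    exact (IsLocalization.AtPrime.to_map_mem_maximal_iff LQ Q _).2 (Ideal.mem_map_of_mem _ (hrs r hr''))
  have hregQ : IsWeaklyRegular MQ rQ :=
    hreg.of_isLocalizedModule LQ Q.primeCompl (LocalizedModule.mkLinearMap Q.primeCompl Mg)
  have hlQ : rQ.length = d := by simp [rQ, rg, hlen]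
  let T := Mg ⧸ (Ideal.ofList rg • ⊤ : Submodule Ag Mg)
  let e := locQuotEquiv (N := Mg) rg Q
  have hdep0 : LocCoh.depth LQ (LocalizedModule Q.primeCompl T) = 0 := by
    have h1 := DepthLib.idealDepth_quot_add_length (I := maximalIdeal LQ) hregQ hmem
    rw [← DepthLib.idealDepth_congr e, ← LocCoh.depth, ← LocCoh.depth, hdQ, hlQ] at h1
    exact (ENat.add_left_injective_of_ne_top (ENat.natCast_ne_top d)) (by simpa using h1)
  have hQass : Q ∈ associatedPrimes Ag T := by
    by_contra hQ
    have := ClosedAlong.one_le_depth_of_notMem_associatedPrimes Q hQ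
    rw [hdep0] at this
    exact absurd this (by norm_num)
  obtain ⟨P₀, hP₀, hP₀Q⟩ := Ideal.exists_minimalPrimes_le
    (Module.annihilator_le_of_mem_support (DepthLib.mem_support_of_mem_associatedPrimes hQass))
  have hP₀ass := Module.associatedPrimes.minimalPrimes_annihilator_subset_associatedPrimes Ag T hP₀
  have heq : P₀ = Q := h g rg (by simp [rg, hlen, hdk]) hreg P₀ hP₀ass Q hQass hP₀Q
  have hregQ' : IsRegular MQ rQ :=
    (IsLocalRing.isRegular_iff_isWeaklyRegular_of_subset_maximalIdeal hmem).2 hregQ
  have hadd := Module.supportDim_add_length_eq_supportDim_of_isRegular (R := LQ) rQ hregQ'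
  have hdim0 : Module.supportDim LQ (LocalizedModule Q.primeCompl T) ≤ 0 := by
    refine Order.krullDim_nonpos_iff_forall_isMax.2 fun z w hzw => ?_
    have hmax : ∀ z : Module.support LQ (LocalizedModule Q.primeCompl T), z.1 = closedPoint LQ := fun z => by
      refine PrimeSpectrum.ext ?_
      let z' := z.1.asIdeal.comap (algebraMap Ag LQ)
      have hz'Q : z' ≤ Q := le_trans (Ideal.comap_mono (le_maximalIdeal z.1.2.ne_top))
        (IsLocalization.AtPrime.comap_maximalIdeal LQ Q).le
      have hz'ann : Module.annihilator Ag T ≤ z' := fun r hr => by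
        refine Module.annihilator_le_of_mem_support z.2 (Module.mem_annihilator.2 fun v => ?_)
        obtain ⟨⟨v, s⟩, rfl⟩ := IsLocalizedModule.mk'_surjective Q.primeCompl
          (LocalizedModule.mkLinearMap Q.primeCompl T) v
        rw [algebraMap_smul]
        simp only [Function.uncurry_apply_pair]
        rw [← IsLocalizedModule.mk'_smul, Module.mem_annihilator.1 hr v, IsLocalizedModule.mk'_zero]
      have h2 : Q ≤ z' := heq ▸ hP₀.2 ⟨Ideal.IsPrime.comap _ (hK := z.1.2), hz'ann⟩ (heq ▸ hz'Q)
      refine le_antisymm (le_maximalIdeal z.1.2.ne_top) ?_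
      show maximalIdeal LQ ≤ z.1.asIdeal
      rw [← Localization.AtPrime.map_eq_maximalIdeal]
      exact Ideal.map_le_iff_le_comap.2 h2
    exact le_of_eq (Subtype.ext ((hmax w).trans (hmax z).symm))
  rw [Module.supportDim_eq_of_equiv e] at hdim0
  rw [hlQ, hmQ] at hadd
  haveI : Nontrivial (MQ ⧸ (Ideal.ofList rQ • ⊤ : Submodule LQ MQ)) := by
    by_contra hM
    rw [not_nontrivial_iff_subsingleton] at hM
    rw [Module.supportDim_eq_bot_of_subsingleton, WithBot.bot_add] at hadd
    exact WithBot.bot_ne_natCast m hadd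
  obtain ⟨j, hj⟩ := DepthLib.exists_supportDim_eq_natCast (R := LQ)
    (M := MQ ⧸ (Ideal.ofList rQ • ⊤ : Submodule LQ MQ))
  rw [hj] at hadd hdim0
  norm_cast at hadd hdim0
  omega

end Groth.Agent.HartConn6
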